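import Mathlib
import Cfsg.Agent.H942.CB.E8Tor
import Cfsg.Agent.FastGrp
import Cfsg.Agent.Prune
set_option linter.all false

section
prune_inst 0x7ffcfdf8efb8bfffffff7e7ffefffffe5bf1dfffefdffb73ffe8e3ff1f9f330a9fc5fbaf7fe050ff0fd6e0b4b0b87853ff7eefffec6fdc7ffffdfff45ffbee4ff5f7bd8851969c341fba0fff83f07f8e7f3fffffffffffffffffffffffffffbeffffffffffff

-- part: H942/CB/Chk
section
prune_inst 0x3020410064000000000000100000000020000000000000000080080200090000000000000a0000000004000000000000000000000000000000000000000100000020100480080000000000800002000000000000000000000000000000000000000000000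
set_option linter.all false
open scoped Cfsg.Agent.FastGrp

/-!
# Certificates for lower bounds of centralisers in `E₈(3)`
-/

set_option autoImplicit false
set_option linter.unusedSectionVars false
set_option maxRecDepth 100000

namespace Cfsg.Agent.H942.CB

open CoxeterSystem Cfsg Cfsg.Lie Cfsg.Lie.ChevalleyDatum
open Cfsg.Agent.ChevalleyStructure Cfsg.Agent.ChevalleyStructure.Elts Cfsg.Agent.ChevalleyStructure.CoxeterGeom
  Cfsg.Agent.ChevalleyStructure.CoxeterGeomTypes Cfsg.Agent.ChevalleyStructure.NPerm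
  Cfsg.Agent.ChevalleyStructure.RootVec Cfsg.Agent.ChevalleyStructure.RootVecTab
open Cfsg.Agent.Tits.Roots Cfsg.Agent.Tits.Core Cfsg.Agent.Nodes Cfsg.Agent.Nodes.Reps Cfsg.Agent.Nodes.BNOf
  Cfsg.Agent.Nodes.RGDChev Cfsg.Agent.Nodes.NormalForm
open Cfsg.Agent.GpExc.Field Cfsg.Agent.BpExc.TowChev Cfsg.Agent.H129.TorusChar
open Cfsg.Agent.H942.E8Tab Cfsg.Agent.H942.E8Alc
open Cfsg.Agent.H944.Tab Cfsg.Agent.H944.Kac

/-! ### the Weyl group of `E₈` -/

/-- the Weyl group of `E₈` -/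
abbrev W8 : Type := CoxeterMatrix.E₈.Group

/-- its Coxeter system -/
abbrev cs8 : CoxeterSystem CoxeterMatrix.E₈ W8 := CoxeterMatrix.E₈.toCoxeterSystem

/-- a letter -/
def toF8 (n : ℕ) : Fin 8 := ⟨n % 8, Nat.mod_lt _ (by norm_num)⟩

/-- the element of a word -/
def word (ω : List ℕ) : W8 := cs8.wordProd (ω.map toF8)

theorem word_nil : word [] = 1 := by unfold word; rw [List.map_nil, wordProd_nil]

theorem word_cons (i : ℕ) (ω : List ℕ) : word (i :: ω) = cs8.simple (toF8 i) * word ω := by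
  unfold word; rw [List.map_cons, wordProd_cons]

theorem word_append (ω ω' : List ℕ) : word (ω ++ ω') = word ω * word ω' := by
  unfold word; rw [List.map_append, wordProd_append]

/-! ### functionals -/

/-- the functional of a list -/
def fz (c : List ℤ) (x : Fin 8 → ℤ) : ℤ := ∑ i : Fin 8, c.getD i 0 * x i

theorem fz_add (c : List ℤ) (x y : Fin 8 → ℤ) : fz c (x + y) = fz c x + fz c y := by
  unfold fz
  simp only [Pi.add_apply, mul_add, Finset.sum_add_distrib]

theorem fz_sub (c : List ℤ) (x y : Fin 8 → ℤ) : fz c (x - y) = fz c x - fz c y := by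
  unfold fz
  simp only [Pi.sub_apply, mul_sub, Finset.sum_sub_distrib]

theorem fz_smul (c : List ℤ) (m : ℤ) (x : Fin 8 → ℤ) : fz c (m • x) = m * fz c x := by
  unfold fz
  rw [Finset.mul_sum]
  refine Finset.sum_congr rfl fun i _ => ?_
  rw [Pi.smul_apply, smul_eq_mul]
  ring

theorem fz_sr (c : List ℤ) (i : Fin 8) : fz c (sr i) = c.getD i 0 := by
  unfold fz
  rw [Finset.sum_eq_single i]
  · rw [sr_self, mul_one]
  · intro j _ hj
    rw [sr_ne hj, mul_zero]
  · intro h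
    exact absurd (Finset.mem_univ i) h

/-- the action of a simple reflection on functionals -/
def sL : ℕ → List ℤ → List ℤ
  | 0, [a, b, c, d, e, f, g, h] => [-a, b, c + a, d, e, f, g, h]
  | 1, [a, b, c, d, e, f, g, h] => [a, -b, c, d + b, e, f, g, h]
  | 2, [a, b, c, d, e, f, g, h] => [a + c, b, -c, d + c, e, f, g, h]
  | 3, [a, b, c, d, e, f, g, h] => [a, b + d, c + d, -d, e + d, f, g, h]
  | 4, [a, b, c, d, e, f, g, h] => [a, b, c, d + e, -e, f + e, g, h]
  | 5, [a, b, c, d, e, f, g, h] => [a, b, c, d, e + f, -f, g + f, h]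
  | 6, [a, b, c, d, e, f, g, h] => [a, b, c, d, e, f + g, -g, h + g]
  | 7, [a, b, c, d, e, f, g, h] => [a, b, c, d, e, f, g + h, -h]
  | _, c => c

/-- the Cartan matrix of `E₈` -/
def A8 : Fin 8 → Fin 8 → ℤ := ![![2, 0, -1, 0, 0, 0, 0, 0], ![0, 2, 0, -1, 0, 0, 0, 0], ![-1, 0, 2, -1, 0, 0, 0, 0],
  ![0, -1, -1, 2, -1, 0, 0, 0], ![0, 0, 0, -1, 2, -1, 0, 0], ![0, 0, 0, 0, -1, 2, -1, 0],
  ![0, 0, 0, 0, 0, -1, 2, -1], ![0, 0, 0, 0, 0, 0, -1, 2]]

theorem cartan8 : ∀ i j : Fin 8, cartanOf chevE8 8 i j = A8 i j := by decide +kernel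

theorem exists_eight {c : List ℤ} (hc : c.length = 8) : ∃ a b c' d e f g h : ℤ, c = [a, b, c', d, e, f, g, h] := by
  obtain _ | ⟨a, c⟩ := c
  · simp at hc
  obtain _ | ⟨b, c⟩ := c
  · simp at hc
  obtain _ | ⟨c', c⟩ := c
  · simp at hc
  obtain _ | ⟨d, c⟩ := c
  · simp at hc
  obtain _ | ⟨e, c⟩ := c
  · simp at hc
  obtain _ | ⟨f, c⟩ := c
  · simp at hc
  obtain _ | ⟨g, c⟩ := c
  · simp at hc
  obtain _ | ⟨h, c⟩ := c
  · simp at hc
  obtain _ | ⟨i, c⟩ := c
  · exact ⟨a, b, c', d, e, f, g, h, rfl⟩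
  · simp at hc

theorem sL_length {c : List ℤ} (hc : c.length = 8) {j : ℕ} (hj : j < 8) : (sL j c).length = 8 := by
  obtain ⟨a, b, c', d, e, f, g, h, rfl⟩ := exists_eight hc
  interval_cases j <;> rfl

theorem sL_getD {c : List ℤ} (hc : c.length = 8) {j : ℕ} (hj : j < 8) (i : Fin 8) :
    (sL j c).getD i 0 = c.getD i 0 - cartanOf chevE8 8 (toF8 j) i * c.getD j 0 := by
  obtain ⟨a, b, c', d, e, f, g, h, rfl⟩ := exists_eight hc
  rw [cartan8]
  interval_cases j <;> (revert i; simp only [sL, A8, toF8, _root_.Fin.forall_fin_succ, _root_.List.getD_eq_getElem?_getD, _root_.List.length_cons, _root_.List.length_nil, _root_.zero_add, Nat.reduceAdd, _root_.Fin.is_lt, _root_.getElem?_pos, _root_.Option.getD_some, Int.reduceNeg, _root_.Nat.zero_mod, _root_.Fin.zero_eta, Fin.isValue, _root_.Matrix.cons_val', _root_.Matrix.cons_val_fin_one, _root_.Matrix.cons_val_zero, _root_.Nat.ofNat_pos, _root_.List.getElem_cons_zero, _root_.Fin.coe_ofNat_eq_mod, _root_.Fin.val_succ,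 _root_.List.getElem_cons_succ, _root_.Matrix.cons_val_succ, _root_.MulZeroClass.zero_mul, _root_.sub_zero, _root_.neg_mul, _root_.one_mul, _root_.sub_neg_eq_add, _root_.Fin.val_eq_zero, _root_.implies_true, _root_.and_self, _root_.and_true, _root_.Nat.one_mod, _root_.Fin.mk_one, _root_.Matrix.cons_val_one, _root_.Nat.one_lt_ofNat, _root_.true_and, Nat.reduceMod, Fin.reduceFinMk, _root_.Matrix.cons_val, Nat.reduceLT, _root_.Nat.mod_succ, _root_.Nat.lt_add_one, _root_.forall_const]) <;> (repeat' with_reducible apply And.intro) <;> ring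

theorem fz_sL {c : List ℤ} (hc : c.length = 8) {j : ℕ} (hj : j < 8) (x : Fin 8 → ℤ) :
    fz (sL j c) x = fz c (rep cs8 e8T.isCartan (cs8.simple (toF8 j)) x) := by
  rw [rep_simple_eq, fz_sub, fz_smul, fz_sr]
  have h1 : ((toF8 j : Fin 8) : ℕ) = j := Nat.mod_eq_of_lt hj
  rw [h1]
  unfold fz pairing
  rw [Finset.sum_mul, ← Finset.sum_sub_distrib]
  refine Finset.sum_congr rfl fun i _ => ?_
  rw [sL_getD hc hj]
  ring

/-- the action of a word on functionals -/
def actW : List ℕ → List ℤ → List ℤ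
  | [], c => c
  | i :: ω, c => actW ω (sL i c)

theorem actW_length : ∀ (ω : List ℕ) (_ : ∀ i ∈ ω, i < 8) {c : List ℤ} (_ : c.length = 8), (actW ω c).length = 8
  | [], _, _, hc => hc
  | i :: ω, h, _, hc => actW_length ω (fun j hj => h j (by simp [hj])) (sL_length hc (h i (by simp)))

theorem fz_actW : ∀ (ω : List ℕ) (_ : ∀ i ∈ ω, i < 8) {c : List ℤ} (_ : c.length = 8) (x : Fin 8 → ℤ),
    fz (actW ω c) x = fz c (rep cs8 e8T.isCartan (word ω) x)
  | [], _, c, _, x => by rw [word_nil, map_one, Module.End.one_apply]; rfl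
  | i :: ω, h, c, hc, x => by
    show fz (actW ω (sL i c)) x = _
    rw [fz_actW ω (fun j hj => h j (by simp [hj])) (sL_length hc (h i (by simp))), fz_sL hc (h i (by simp)),
      word_cons, rep_mul_apply]

/-- the height functional -/
def ones : List ℤ := [1, 1, 1, 1, 1, 1, 1, 1]

theorem fz_ones (x : Fin 8 → ℤ) : fz ones x = ht x := by
  unfold fz ht
  refine Finset.sum_congr rfl fun i _ => ?_
  have : ones.getD i 0 = 1 := by fin_cases i <;> rfl
  rw [this, one_mul]

/-- Elements of the Weyl group are determined by the heights. -/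
theorem eq_of_ht {a b : W8} (h : ∀ x, ht (rep cs8 e8T.isCartan a x) = ht (rep cs8 e8T.isCartan b x)) : a = b := by
  have : Finite W8 := finite_W e8T cs8
  have h1 : a * b⁻¹ = 1 := by
    refine eq_one_of_nonneg cs8 e8T.isCartan (a * b⁻¹) fun i => ?_
    have h2 : IsRoot cs8 e8T.isCartan (rep cs8 e8T.isCartan (a * b⁻¹) (sr i)) := ⟨_, i, rfl⟩
    rcases h2.pos_or_neg with h3 | h3
    · exact h3
    · exfalso
      have h4 : ht (rep cs8 e8T.isCartan (a * b⁻¹) (sr i)) = ht (sr i : Fin 8 → ℤ) := by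
        rw [rep_mul_apply, h, rep_apply_inv]
      have h5 := RGD.ht_pos (isRoot_sr cs8 e8T.isCartan i) (sr_nonneg i)
      have h6 := RGD.ht_pos h2.neg (neg_nonneg.2 h3)
      have h7 : ht (-(rep cs8 e8T.isCartan (a * b⁻¹) (sr i))) = - ht (rep cs8 e8T.isCartan (a * b⁻¹) (sr i)) := by
        unfold ht; simp only [_root_.map_mul, _root_.Module.End.mul_apply, _root_.Pi.neg_apply, _root_.Finset.sum_neg_distrib]
      omega
  exact mul_inv_eq_one.1 h1

/-! ### the positive roots -/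

/-- the root of a list -/
def toR (r : List ℕ) : Fin 8 → ℤ := fun i => ((r.getD i 0 : ℕ) : ℤ)

theorem mem_pos_iff {a : Fin 8 → ℤ} : a ∈ RGD.Pos cs8 e8T.isCartan ↔ ∃ r ∈ R8, a = toR r := by
  have hT := tab8
  rw [chkTab, decide_eq_true_iff] at hT
  have hv : ∀ s i, vec chevE8 8 s i = ((List.range 8).map fun i => rt chevE8 s i).getD i 0 := by
    intro s i
    rw [vec_apply, List.getD_eq_getElem _ _ (by simp)]
    simp
  constructor
  · rintro ⟨hr, h0⟩
    obtain ⟨s, hs, rfl⟩ := (isRoot_iff e8T cs8 a).1 hr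
    have h1 : ((List.range 8).map fun i => rt chevE8 s i) ∈
        (List.range chevE8.nroots).map (fun s => (List.range 8).map fun i => rt chevE8 s i) :=
      List.mem_map.2 ⟨s, List.mem_range.2 hs, rfl⟩
    rw [hT, List.mem_append] at h1
    rcases h1 with h1 | h1
    · exfalso
      rw [List.mem_map] at h1
      obtain ⟨r, -, hr'⟩ := h1
      have h2 : vec chevE8 8 s = - toR r := by
        funext i
        rw [hv, ← hr', Pi.neg_apply]
        rw [show (0 : ℤ) = -((0 : ℕ) : ℤ) from rfl, List.getD_map (f := fun a : ℕ => -(a : ℤ))]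
        rfl
      have h3 : (0 : Fin 8 → ℤ) ≤ toR r := fun i => Int.natCast_nonneg _
      exact hr.not_pos_neg h0 (by rw [h2]; exact neg_nonpos.2 h3)
    · rw [List.mem_map] at h1
      obtain ⟨r, hrR, hr'⟩ := h1
      refine ⟨r, hrR, ?_⟩
      funext i
      rw [hv, ← hr']
      rw [show (0 : ℤ) = ((0 : ℕ) : ℤ) from rfl, List.getD_map]
      rfl
  · rintro ⟨r, hr, rfl⟩
    refine ⟨?_, fun i => Int.natCast_nonneg _⟩
    have h1 : (r.map fun a : ℕ => (a : ℤ)) ∈
        (List.range chevE8.nroots).map (fun s => (List.range 8).map fun i => rt chevE8 s i) := by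
      rw [hT, List.mem_append]
      exact Or.inr (List.mem_map.2 ⟨r, hr, rfl⟩)
    rw [List.mem_map] at h1
    obtain ⟨s, hs, h2⟩ := h1
    refine (isRoot_iff e8T cs8 _).2 ⟨s, List.mem_range.1 hs, ?_⟩
    funext i
    rw [hv, h2]
    rw [show (0 : ℤ) = ((0 : ℕ) : ℤ) from rfl, List.getD_map]
    rfl

/-! ### the certificate -/

/-- the data of a certificate -/
structure Cert where
  /-- the twist -/
  w : List ℕ
  /-- elementary divisors of the twisted torus -/
  d : List ℕ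
  /-- functionals -/
  U : List (List ℤ)
  /-- dual vectors -/
  f : List (List ℤ)
  /-- elements of the Weyl group of the centraliser -/
  Ws : List (List ℕ)

/-- scalar product -/
def dotZ : List ℕ → List ℤ → ℤ
  | a :: as, b :: bs => (a : ℤ) * b + dotZ as bs
  | _, _ => 0

theorem dotZ_eq (l : ℕ) : ∀ (r : List ℕ) (V : List ℤ), r.length ≤ l →
    dotZ r V = ∑ i : Fin l, V.getD i 0 * ((r.getD i 0 : ℕ) : ℤ) := by
  induction l with
  | zero =>
    intro r V hr
    have : r = [] := List.length_eq_zero_iff.1 (by omega)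
    subst this
    rw [dotZ]
    · simp
    · simp
  | succ n ih =>
    intro r V hr
    rw [Fin.sum_univ_succ]
    cases r with
    | nil => rw [dotZ] <;> simp only [_root_.Fin.coe_ofNat_eq_mod, _root_.Nat.zero_mod, _root_.List.getD_eq_getElem?_getD, _root_.List.length_nil, _root_.lt_self_iff_false, _root_.not_false_eq_true, _root_.getElem?_neg, _root_.Option.getD_none, _root_.CharP.cast_eq_zero, _root_.MulZeroClass.mul_zero, _root_.Fin.val_succ, _root_.not_lt_zero, _root_.Finset.sum_const_zero, _root_.add_zero, _root_.List.nil_eq, _root_.reduceCtorEq, _root_.imp_false, _root_.IsEmpty.forall_iff, _root_.implies_true]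
    | cons a as =>
      cases V with
      | nil => rw [dotZ] <;> simp only [_root_.Fin.coe_ofNat_eq_mod, _root_.Nat.zero_mod, _root_.List.getD_eq_getElem?_getD, _root_.List.length_nil, _root_.lt_self_iff_false, _root_.not_false_eq_true, _root_.getElem?_neg, _root_.Option.getD_none, _root_.List.length_cons, _root_.lt_add_iff_pos_left, _root_.Order.lt_add_one_iff, _root_.zero_le, _root_.getElem?_pos, _root_.List.getElem_cons_zero, _root_.Option.getD_some, _root_.MulZeroClass.zero_mul, _root_.Fin.val_succ, _root_.not_lt_zero, _root_.List.getElem?_cons_succ, _root_.Finset.sum_const_zero, _root_.add_zero, _root_.List.cons.injEq, _root_.List.nil_eq, _root_.reduceCtorEq, _root_.imp_self, _root_.implies_true]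
      | cons b bs =>
        rw [dotZ, ih as bs (by simpa using hr)]
        simp only [mul_comm, _root_.List.getD_eq_getElem?_getD, _root_.Fin.coe_ofNat_eq_mod, _root_.Nat.zero_mod, _root_.List.length_cons, _root_.lt_add_iff_pos_left, _root_.Order.lt_add_one_iff, _root_.zero_le, _root_.getElem?_pos, _root_.List.getElem_cons_zero, _root_.Option.getD_some, _root_.Fin.val_succ, _root_.List.getElem?_cons_succ]

theorem dotZ_fz {r : List ℕ} (hr : r ∈ R8) (c : List ℤ) : dotZ r c = fz c (toR r) :=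
  dotZ_eq 8 r c (len8 r hr)

/-- scalar product of integer lists -/
def dotI : List ℤ → List ℤ → ℤ
  | a :: as, b :: bs => a * b + dotI as bs
  | _, _ => 0

/-- the positive roots with value 1 -/
def SL (N : ℕ) (Y : List ℕ) : List (List ℕ) := R8.filter fun r => Nat.beq (dotN r Y % N) 0

/-- `Y` as a functional -/
def YZ (Y : List ℕ) : List ℤ := Y.map fun a : ℕ => (a : ℤ)

/-- the letters of a word -/
def okw (ω : List ℕ) : Bool := ω.all fun i => decide (i < 8)

/-- the vector of a list -/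
def toV (c : List ℤ) : Fin 8 → ℤ := fun i => c.getD i 0

/-- the checks -/
def chk (N : ℕ) (Y : List ℕ) (C : Cert) : Bool :=
  decide (Y.length = 8) && okw C.w &&
  ((List.range 8).all fun i => decide (((actW C.w (YZ Y)).getD i 0 - 3 * (YZ Y).getD i 0) % (N : ℤ) = 0)) &&
  ((SL N Y).all fun r => decide (0 < dotZ r (actW C.w ones))) &&
  ((List.range 8).all fun i => decide ((C.U.getD i []).length = 8) && decide (C.d.getD i 0 % 3 ≠ 0) &&
    ((List.range 8).all fun m => decide (((actW C.w (C.U.getD i [])).getD m 0 - 3 * (C.U.getD i []).getD m 0) %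
      ((C.d.getD i 0 : ℕ) : ℤ) = 0)) &&
    ((List.range 8).all fun j => decide (∑ m : Fin 8, (C.U.getD i []).getD m 0 * (C.f.getD j []).getD m 0 =
      if i = j then 1 else 0))) &&
  (C.Ws.all fun ω => okw ω &&
    ((List.range 8).all fun i => decide (((actW ω (YZ Y)).getD i 0 - (YZ Y).getD i 0) % (N : ℤ) = 0)) &&
    decide (actW (ω ++ C.w) ones = actW (C.w ++ ω) ones)) &&
  decide ((C.Ws.map fun ω => actW ω ones).Nodup)

/-- the bound -/
def bnd (N : ℕ) (Y : List ℕ) (C : Cert) : ℕ :=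
  (C.Ws.map fun ω => 3 ^ (SL N Y).length * (∏ i : Fin 8, C.d.getD i 0) *
    3 ^ ((SL N Y).filter fun r => decide (dotZ r (actW ω ones) < 0)).length).sum

theorem nodupR8 : R8.Nodup := by decide +kernel

theorem lenR8 : ∀ r ∈ R8, r.length = 8 := by decide +kernel

theorem toR_inj {r r' : List ℕ} (hr : r ∈ R8) (hr' : r' ∈ R8) (h : toR r = toR r') : r = r' := by
  refine List.ext_getElem (by rw [lenR8 r hr, lenR8 r' hr']) fun i h1 h2 => ?_
  have h3 : i < 8 := by rw [lenR8 r hr] at h1; exact h1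
  have h4 := congrFun h ⟨i, h3⟩
  unfold toR at h4
  simp only [List.getD_eq_getElem _ _ h1, List.getD_eq_getElem _ _ h2] at h4
  exact_mod_cast h4

theorem ncard_image (L : List (List ℕ)) (hL : L.Nodup) (h : ∀ r ∈ L, r ∈ R8) :
    (toR '' {r | r ∈ L}).ncard = L.length := by
  classical
  have h1 : {r | r ∈ L} = (L.toFinset : Set (List ℕ)) := by ext r; simp
  have h2 : Set.InjOn toR {r | r ∈ L} := fun a ha b hb hab => toR_inj (h a ha) (h b hb) hab
  rw [h2.ncard_image, h1, Set.ncard_coe_finset, List.toFinset_card_of_nodup hL]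

theorem fz_dvd {m q : ℤ} {c c' : List ℤ} (h : ∀ i : Fin 8, m ∣ c.getD i 0 - q * c'.getD i 0) (a : Fin 8 → ℤ) :
    m ∣ fz c a - q * fz c' a := by
  unfold fz
  rw [Finset.mul_sum, ← Finset.sum_sub_distrib]
  refine Finset.dvd_sum fun i _ => ?_
  have h1 : c.getD i 0 * a i - q * (c'.getD i 0 * a i) = (c.getD i 0 - q * c'.getD i 0) * a i := by ring
  rw [h1]
  exact Dvd.dvd.mul_right (h i) _

theorem all_range {p : ℕ → Bool} (h : (List.range 8).all p = true) (i : Fin 8) : p i = true := by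
  rw [List.all_eq_true] at h
  exact h i (List.mem_range.2 i.2)

theorem okw_spec {ω : List ℕ} (h : okw ω = true) : ∀ i ∈ ω, i < 8 := by
  intro i hi
  unfold okw at h
  rw [List.all_eq_true] at h
  exact of_decide_eq_true (h i hi)

theorem YZ_getD (Y : List ℕ) (i : ℕ) : (YZ Y).getD i 0 = ((Y.getD i 0 : ℕ) : ℤ) := by
  unfold YZ
  rw [show (0 : ℤ) = ((0 : ℕ) : ℤ) from rfl, List.getD_map]

instance cs8fin : Finite W8 := finite_W e8T cs8

set_option backward.isDefEq.respectTransparency false in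
theorem n8 : ∀ i j : Fin 8, CoxeterMatrix.E₈ i j ≠ 4 ∧ CoxeterMatrix.E₈ i j ≠ 6 := by decide +kernel

/-- the form of `E₈` -/
theorem frm8 : H897.T5Lat.Frm cs8 e8T.isCartan (H897.T5Lat.bf (cartanOf chevE8 8)) :=
  H897.T5Conn.Par.frm (cs := cs8) (h := e8T.isCartan) (i0 := 1) (par := ![2, 1, 3, 1, 3, 4, 5, 6]) (n := 8)
    ⟨by decide +kernel, rfl, by decide +kernel⟩ (fun i j => (n8 i j).1) (fun i j => (n8 i j).2)

/-- **The bound.** -/
theorem cent_le {N : ℕ} {Y : List ℕ} {C : Cert} (hN0 : N ≠ 0) (hN : N.Coprime 3) (hc : chk N Y C = true)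
    {x : ↥(chevE8.group (ZMod 3))} (hx : x ^ N = 1) (hT : TorD e8T x N (vecL N Y)) :
    bnd N Y C ≤ Nat.card ↥(Subgroup.centralizer {x}) := by
  classical
  obtain ⟨z, t, ζ, hζ, hz, htT, hv⟩ := hT
  unfold chk at hc
  simp only [Bool.and_eq_true, decide_eq_true_eq] at hc
  obtain ⟨⟨⟨⟨⟨⟨hY8, hw8⟩, hwY⟩, hwS⟩, htor⟩, hWs⟩, hnd⟩ := hc
  have hkch : CharP (AlgebraicClosure (ZMod 3)) 3 :=
    charP_of_injective_algebraMap (algebraMap (ZMod 3) (AlgebraicClosure (ZMod 3))).injective 3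
  have hlf : LocFin (AlgebraicClosure (ZMod 3)) := locFin_of_isAlgebraic 3 (AlgebraicClosure (ZMod 3))
  have hζ0 : ζ ≠ 0 := hζ.ne_zero hN0
  have hYl : (YZ Y).length = 8 := by unfold YZ; rw [List.length_map, hY8]
  -- the character of `t`
  have hX : ∀ a, cX e8T t a = ζ ^ fz (YZ Y) a := by
    have h1 : IsMC fun a : Fin 8 → ℤ => ζ ^ fz (YZ Y) a := ⟨by
      show ζ ^ fz (YZ Y) 0 = 1
      have : fz (YZ Y) 0 = 0 := by unfold fz; simp
      rw [this, zpow_zero], fun a b => by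
      show ζ ^ fz (YZ Y) (a + b) = _
      rw [fz_add, zpow_add₀ hζ0]⟩
    refine (isMC_cX e8T htT).ext h1 fun i => ?_
    rw [hv, fz_sr, YZ_getD, zpow_natCast]
    unfold vecL
    rw [ZMod.val_natCast]
    exact pow_mod_orderOf' hζ _
  have hX1 : ∀ a, cX e8T t a = 1 ↔ (N : ℤ) ∣ fz (YZ Y) a := fun a => by
    rw [hX, hζ.zpow_eq_one_iff_dvd]
  have hXe : ∀ a b, (N : ℤ) ∣ fz (YZ Y) a - fz (YZ Y) b → cX e8T t a = cX e8T t b := fun a b h => by
    rw [hX, hX]
    obtain ⟨m, hm⟩ := h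
    have h1 : fz (YZ Y) a = fz (YZ Y) b + N * m := by linarith only [hm]
    rw [h1, zpow_add₀ hζ0, zpow_mul, zpow_natCast, hζ.pow_eq_one, one_zpow, mul_one]
  have hdot : ∀ r ∈ R8, fz (YZ Y) (toR r) = ((dotN r Y : ℕ) : ℤ) := by
    intro r hr
    rw [dotN_eq 8 r Y (len8 r hr)]
    unfold fz toR
    push_cast
    refine Finset.sum_congr rfl fun i _ => ?_
    rw [YZ_getD, mul_comm]
  -- the roots
  have hSL : ∀ r, r ∈ SL N Y ↔ r ∈ R8 ∧ cX e8T t (toR r) = 1 := by
    intro r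
    unfold SL
    rw [List.mem_filter]
    refine and_congr_right fun hr => ?_
    rw [hX1, hdot r hr, Int.natCast_dvd_natCast, Nat.beq_eq]
    exact ⟨Nat.dvd_of_mod_eq_zero, Nat.mod_eq_zero_of_dvd⟩
  have hSt : St e8T cs8 t = toR '' {r | r ∈ SL N Y} := by
    ext a
    constructor
    · rintro ⟨h1, h2⟩
      obtain ⟨r, hr, rfl⟩ := mem_pos_iff.1 h1
      exact ⟨r, (hSL r).2 ⟨hr, h2⟩, rfl⟩
    · rintro ⟨r, hr, rfl⟩
      have h1 := (hSL r).1 hr
      exact ⟨mem_pos_iff.2 ⟨r, h1.1, rfl⟩, h1.2⟩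
  have hSLn : (SL N Y).Nodup := nodupR8.filter _
  have hSLR : ∀ r ∈ SL N Y, r ∈ R8 := fun r hr => ((hSL r).1 hr).1
  have hStc : (St e8T cs8 t).ncard = (SL N Y).length := by rw [hSt]; exact ncard_image _ hSLn hSLR
  -- the twist
  have hwl := okw_spec hw8
  have h31 : (3 : ℕ) ^ 1 = 3 := rfl
  have hw3 : ∀ a, (N : ℤ) ∣ fz (YZ Y) (rep cs8 e8T.isCartan (word C.w) a) - 3 * fz (YZ Y) a := by
    intro a
    rw [← fz_actW C.w hwl hYl]
    refine fz_dvd (fun i => ?_) a
    exact Int.dvd_of_emod_eq_zero (of_decide_eq_true (all_range hwY i))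
  have hwt : ∀ a, cX e8T t (rep cs8 e8T.isCartan (word C.w) a) = cX e8T t a ^ 3 ^ 1 := by
    intro a
    rw [h31, hX, hX]
    obtain ⟨m, hm⟩ := hw3 a
    have h1 : fz (YZ Y) (rep cs8 e8T.isCartan (word C.w) a) = fz (YZ Y) a * 3 + N * m := by linarith only [hm]
    rw [h1, zpow_add₀ hζ0, zpow_mul, zpow_mul, zpow_natCast ζ N, hζ.pow_eq_one, one_zpow, mul_one]
    exact zpow_ofNat _ 3
  have hwSt : ∀ a ∈ St e8T cs8 t, rep cs8 e8T.isCartan (word C.w) a ∈ St e8T cs8 t := by
    intro a ha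
    have ha' := ha
    rw [hSt] at ha'
    obtain ⟨r, hr, rfl⟩ := ha'
    have h1 : IsRoot cs8 e8T.isCartan (rep cs8 e8T.isCartan (word C.w) (toR r)) := ha.1.1.act _
    rw [List.all_eq_true] at hwS
    have h2 : 0 < dotZ r (actW C.w ones) := of_decide_eq_true (hwS r hr)
    rw [dotZ_fz (hSLR r hr), fz_actW C.w hwl rfl, fz_ones] at h2
    refine ⟨⟨h1, ?_⟩, by rw [hwt, ha.2, one_pow]⟩
    rcases h1.pos_or_neg with h3 | h3
    · exact h3
    · exfalso
      have h6 := RGD.ht_pos h1.neg (neg_nonneg.2 h3)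
      have h7 : ht (-(rep cs8 e8T.isCartan (word C.w) (toR r))) = - ht (rep cs8 e8T.isCartan (word C.w) (toR r)) := by
        unfold ht; simp
      omega
  -- the torus
  have htor' : ∀ i : Fin 8, (C.U.getD i []).length = 8 ∧ C.d.getD i 0 % 3 ≠ 0 ∧
      (∀ m : Fin 8, ((C.d.getD i 0 : ℕ) : ℤ) ∣ (actW C.w (C.U.getD i [])).getD m 0 - 3 * (C.U.getD i []).getD m 0) ∧
      ∀ j : Fin 8, ∑ m : Fin 8, (C.U.getD i []).getD m 0 * (C.f.getD j []).getD m 0 = if i = j then 1 else 0 := by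
    intro i
    have h1 := all_range htor i
    simp only [Bool.and_eq_true, decide_eq_true_eq] at h1
    obtain ⟨⟨⟨h1, h2⟩, h3⟩, h4⟩ := h1
    refine ⟨h1, h2, fun m => Int.dvd_of_emod_eq_zero (of_decide_eq_true (all_range h3 m)), fun j => ?_⟩
    have h5 := of_decide_eq_true (all_range h4 j)
    rw [h5]
    by_cases hij : i = j
    · subst hij; simp
    · rw [if_neg hij, if_neg fun h => hij (Fin.ext h)]
  -- the elements of `W`
  rw [List.all_eq_true] at hWs
  have hWs' : ∀ ω ∈ C.Ws, (∀ i ∈ ω, i < 8) ∧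
      (∀ a, (N : ℤ) ∣ fz (YZ Y) (rep cs8 e8T.isCartan (word ω) a) - fz (YZ Y) a) ∧ word ω * word C.w = word C.w * word ω := by
    intro ω hω
    have h1 := hWs ω hω
    simp only [Bool.and_eq_true, decide_eq_true_eq] at h1
    obtain ⟨⟨h1, h2⟩, h3⟩ := h1
    have hωl := okw_spec h1
    refine ⟨hωl, fun a => ?_, ?_⟩
    · rw [← fz_actW ω hωl hYl]
      have h4 := fz_dvd (m := (N : ℤ)) (q := 1) (c := actW ω (YZ Y)) (c' := YZ Y) (fun i => by
        rw [one_mul]
        exact Int.dvd_of_emod_eq_zero (of_decide_eq_true (all_range h2 i))) a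
      rwa [one_mul] at h4
    · rw [← word_append, ← word_append]
      have e1 : ∀ i ∈ ω ++ C.w, i < 8 := fun i hi => (List.mem_append.1 hi).elim (hωl i) (hwl i)
      have e2 : ∀ i ∈ C.w ++ ω, i < 8 := fun i hi => (List.mem_append.1 hi).elim (hwl i) (hωl i)
      refine eq_of_ht fun a => ?_
      rw [← fz_ones, ← fz_ones, ← fz_actW _ e1 rfl, ← fz_actW _ e2 rfl, h3]
  have hwnd : (C.Ws.map word).Nodup := by
    rw [List.nodup_map_iff_inj_on]
    · intro ω hω ω' hω' h
      have h1 : actW ω ones = actW ω' ones := by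
        have e1 : ∀ x, fz (actW ω ones) x = fz (actW ω' ones) x := fun x => by
          rw [fz_actW ω (hWs' ω hω).1 rfl, fz_actW ω' (hWs' ω' hω').1 rfl, h]
        refine List.ext_getElem (by rw [actW_length ω (hWs' ω hω).1 rfl, actW_length ω' (hWs' ω' hω').1 rfl]) ?_
        intro i h1 h2
        have h3 : i < 8 := by rw [actW_length ω (hWs' ω hω).1 rfl] at h1; exact h1
        have h4 := e1 (sr ⟨i, h3⟩)
        rw [fz_sr, fz_sr] at h4
        rwa [List.getD_eq_getElem _ _ h1, List.getD_eq_getElem _ _ h2] at h4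
      exact (List.nodup_map_iff_inj_on (List.Nodup.of_map _ hnd)).1 hnd ω hω ω' hω' h1
    · exact List.Nodup.of_map _ hnd
  have key := cent_bound (F0 := ZMod 3) e8T cs8 hlf frm8 (algebraMap (ZMod 3) (AlgebraicClosure (ZMod 3))) (p := 3)
    (n := 1) (by rw [Nat.card_eq_fintype_card, ZMod.card]; rfl) invC_E8 one_pos hN0 hN hx hz htT (word C.w) hwt hwSt
    (fun i => C.d.getD i 0) (fun i => by
      intro h0
      exact (htor' i).2.1 (by rw [h0])) (fun i => by
      rw [Nat.coprime_comm]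
      exact (Nat.Prime.coprime_iff_not_dvd Nat.prime_three).2 fun h => (htor' i).2.1 (Nat.mod_eq_zero_of_dvd h))
    (fun i m => (C.U.getD i []).getD m 0) (fun j m => (C.f.getD j []).getD m 0) (fun i j => (htor' i).2.2.2 j)
    (fun i m => by
      have h1 := (htor' i).2.2.1 m
      have h2 : ∑ j : Fin 8, (C.U.getD i []).getD j 0 * (rep cs8 e8T.isCartan (word C.w) (sr m) -
          ((3 ^ 1 : ℕ) : ℤ) • (sr m : Fin 8 → ℤ)) j = fz (C.U.getD i []) (rep cs8 e8T.isCartan (word C.w) (sr m)) -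
            3 * fz (C.U.getD i []) (sr m) := by
        rw [← fz_smul, ← fz_sub]
        rfl
      rw [h2, ← fz_actW C.w hwl (htor' i).1, fz_sr, fz_sr]
      exact h1) (C.Ws.map word).toFinset (by
      intro w' hw'
      rw [List.mem_toFinset, List.mem_map] at hw'
      obtain ⟨ω, hω, rfl⟩ := hw'
      exact (hWs' ω hω).2.2) (by
      intro w' hw' a
      rw [List.mem_toFinset, List.mem_map] at hw'
      obtain ⟨ω, hω, rfl⟩ := hw'
      exact hXe _ _ ((hWs' ω hω).2.1 a))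
  refine le_trans (le_of_eq ?_) key
  rw [List.sum_toFinset _ hwnd, List.map_map]
  unfold bnd
  congr 1
  refine List.map_congr_left fun ω hω => ?_
  simp only [Function.comp_apply]
  have h1 : (St e8T cs8 t ∩ NW cs8 e8T.isCartan (word ω)).ncard =
      ((SL N Y).filter fun r => decide (dotZ r (actW ω ones) < 0)).length := by
    have h2 : St e8T cs8 t ∩ NW cs8 e8T.isCartan (word ω) =
        toR '' {r | r ∈ (SL N Y).filter fun r => decide (dotZ r (actW ω ones) < 0)} := by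
      rw [hSt]
      have hiff : ∀ r ∈ SL N Y, (toR r ∈ NW cs8 e8T.isCartan (word ω) ↔ dotZ r (actW ω ones) < 0) := by
        intro r hr
        have hpos := mem_pos_iff.2 ⟨r, hSLR r hr, rfl⟩
        rw [dotZ_fz (hSLR r hr), fz_actW ω (hWs' ω hω).1 rfl, fz_ones]
        have h1 : IsRoot cs8 e8T.isCartan (rep cs8 e8T.isCartan (word ω) (toR r)) := hpos.1.act _
        have h7 : ht (-(rep cs8 e8T.isCartan (word ω) (toR r))) = - ht (rep cs8 e8T.isCartan (word ω) (toR r)) := by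
          unfold ht; simp
        constructor
        · rintro ⟨-, -, h3⟩
          have h6 := RGD.ht_pos h1.neg (neg_nonneg.2 h3)
          omega
        · intro h3
          refine ⟨hpos.1, hpos.2, ?_⟩
          rcases h1.pos_or_neg with h4 | h4
          · exfalso
            have h6 := RGD.ht_pos h1 h4
            omega
          · exact h4
      ext a
      constructor
      · rintro ⟨⟨r, hr, rfl⟩, h3⟩
        refine ⟨r, ?_, rfl⟩
        rw [Set.mem_ofPred_eq, List.mem_filter]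
        exact ⟨hr, decide_eq_true ((hiff r hr).1 h3)⟩
      · rintro ⟨r, hr, rfl⟩
        rw [Set.mem_ofPred_eq, List.mem_filter] at hr
        exact ⟨⟨r, hr.1, rfl⟩, (hiff r hr.1).2 (of_decide_eq_true hr.2)⟩
    rw [h2]
    exact ncard_image _ (hSLn.filter _) fun r hr => hSLR r (List.mem_filter.1 hr).1
  rw [h1, hStc, h31]

end Cfsg.Agent.H942.CB

private theorem dce_2a8b9896bc2f : _root_.True := by
  try have : _root_.True := by simp only [_root_.Cfsg.Agent.H942.CB.dotZ.eq_def]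
  try have : _root_.True := by simp only [_root_.Cfsg.Agent.H942.CB.dotZ.eq_1]
  try have : _root_.True := by simp only [_root_.Cfsg.Agent.H942.CB.St.congr_simp]
  try have : _root_.True := by simp only [_root_.Cfsg.Agent.H942.CB.sL.eq_3]
  try have : _root_.True := by simp only [_root_.Cfsg.Agent.H942.CB.sL.eq_6]
  try have : _root_.True := by simp only [_root_.Cfsg.Agent.H942.CB.sL.eq_5]
  try have : _root_.True := by simp only [_root_.Cfsg.Agent.H942.CB.sL.eq_9]
  try have : _root_.True := by simp only [_root_.Cfsg.Agent.H942.CB.sL.eq_7]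
  try have : _root_.True := by simp only [_root_.Cfsg.Agent.H942.CB.toF8.eq_1]
  try have : _root_.True := by simp only [_root_.Cfsg.Agent.H942.CB.dotZ.eq_2]
  try have : _root_.True := by simp only [_root_.Cfsg.Agent.H942.CB.sL._sparseCasesOn_1.else_eq]
  try have : _root_.True := by simp only [_root_.Cfsg.Agent.Nodes.NormalForm.NW.congr_simp]
  try have : _root_.True := by simp only [_root_.Cfsg.Agent.H942.CB.sL.eq_4]
  try have : _root_.True := by simp only [_root_.Cfsg.Agent.H942.CB.sL.eq_8]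
  try have : _root_.True := by simp only [_root_.Cfsg.Agent.H942.CB.sL._sparseCasesOn_2.else_eq]
  try have : _root_.True := by simp only [_root_.Cfsg.Agent.H942.CB.A8.eq_1]
  try have : _root_.True := by simp only [_root_.Cfsg.Agent.H942.CB.sL.eq_1]
  try have : _root_.True := by simp only [_root_.Cfsg.Agent.H942.CB.sL.eq_2]
  exact _root_.True.intro
end

-- part: H540/E8C/Centre
section
prune_inst 0x3000000000000018000000001a008000000000088000400002040800040200010801002001008030209020000000000000000018000000000000000000000000000000000000000000000004000000000000000000000000000000000000000000000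
set_option linter.all false
open scoped Cfsg.Agent.FastGrp

/-!
# S5919: central elements of centralisers in `E₈(3)`

For `x` of order prime to 3 with alcove vector `Y` (modulo `N`), a twist `w` with `w Y = 3 Y` and a second vector
`Y'` (modulo `N'`) with `w Y' = 3 Y'` vanishing on the roots on which `Y` vanishes, there is `x'` in `E₈(3)` commuting
with `x` and fixing all the fixed vectors of `x`.
-/

set_option autoImplicit false
set_option linter.unusedSectionVars false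
set_option maxRecDepth 100000

namespace Cfsg.Agent.H540.E8C

open CoxeterSystem Cfsg Cfsg.Lie Cfsg.Lie.ChevalleyDatum
open Cfsg.Agent.ChevalleyStructure Cfsg.Agent.ChevalleyStructure.Elts Cfsg.Agent.ChevalleyStructure.CoxeterGeom
  Cfsg.Agent.ChevalleyStructure.CoxeterGeomTypes Cfsg.Agent.ChevalleyStructure.NPerm
  Cfsg.Agent.ChevalleyStructure.RootVec Cfsg.Agent.ChevalleyStructure.RootVecTab
open Cfsg.Agent.Tits.Roots Cfsg.Agent.Tits.Core Cfsg.Agent.Nodes Cfsg.Agent.Nodes.Reps Cfsg.Agent.Nodes.BNOf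
  Cfsg.Agent.Nodes.RGDChev Cfsg.Agent.Nodes.Bruhat Cfsg.Agent.Nodes.SubComb Cfsg.Agent.Nodes.Coroot
  Cfsg.Agent.Nodes.NormalForm
open Cfsg.Agent.KFacts.RgdField Cfsg.Agent.KFacts.RgdChevCoord Cfsg.Agent.BpExc.TorCent Cfsg.Agent.BpExc.TorChev
open Cfsg.Agent.GpExc.Field Cfsg.Agent.BpExc.Tow Cfsg.Agent.BpExc.TowChev Cfsg.Agent.BpExc.Fr
  Cfsg.Agent.BpExc.LangFr Cfsg.Agent.LangThm Cfsg.Agent.BpExc Cfsg.Agent.H129.TorusChar Cfsg.Agent.H129.TorusMain
open Cfsg.Agent.H720.TorusReal Cfsg.Agent.Nodes.Unique Cfsg.Agent.H897.T5Cent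
open Cfsg.Agent.BpExc.FamUntw Cfsg.Agent.BpExc.FamInst Cfsg.Agent.BpExc.FamField
open Cfsg.Agent.H942.E8Tab Cfsg.Agent.H942.E8Alc Cfsg.Agent.H942.CB
open Cfsg.Agent.H944.Tab Cfsg.Agent.H944.Kac
open scoped commutatorElement

/-- the check -/
def chkC (N N' : ℕ) (Y Y' : List ℕ) (ω : List ℕ) : Bool :=
  decide (Y.length = 8) && decide (Y'.length = 8) && okw ω &&
  ((List.range 8).all fun i => decide (((actW ω (YZ Y)).getD i 0 - 3 * (YZ Y).getD i 0) % (N : ℤ) = 0)) &&
  ((List.range 8).all fun i => decide (((actW ω (YZ Y')).getD i 0 - 3 * (YZ Y').getD i 0) % (N' : ℤ) = 0)) &&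
  ((SL N Y).all fun r => Nat.beq (dotN r Y' % N') 0)

/-- the character of a torus element with the values `ζ ^ Y i` on the simple roots -/
theorem cX_of_vals {N : ℕ} {Y : List ℕ} {k : Type*} [Field k] {t : ↥(chevE8.group k)} (ht : t ∈ TT chevE8 k)
    {ζ : k} (hζ : IsPrimitiveRoot ζ N) (hN0 : N ≠ 0) (hv : ∀ i, cX e8T t (sr i) = ζ ^ (vecL N Y i).val) (a : Fin 8 → ℤ) :
    cX e8T t a = ζ ^ fz (YZ Y) a := by
  have : NeZero N := ⟨hN0⟩
  have hζ0 : ζ ≠ 0 := hζ.ne_zero hN0
  have h1 : IsMC fun a : Fin 8 → ℤ => ζ ^ fz (YZ Y) a := ⟨by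
    show ζ ^ fz (YZ Y) 0 = 1
    have : fz (YZ Y) 0 = 0 := by unfold fz; simp
    rw [this, zpow_zero], fun a b => by
    show ζ ^ fz (YZ Y) (a + b) = _
    rw [fz_add, zpow_add₀ hζ0]⟩
  refine (isMC_cX e8T ht).ext h1 (fun i => ?_) a
  rw [hv, fz_sr, YZ_getD, zpow_natCast]
  unfold vecL
  rw [ZMod.val_natCast]
  exact pow_mod_orderOf' hζ _

theorem fz_dotN {Y : List ℕ} {r : List ℕ} (hr : r ∈ R8) : fz (YZ Y) (toR r) = ((dotN r Y : ℕ) : ℤ) := by
  rw [dotN_eq 8 r Y (len8 r hr)]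
  unfold fz toR
  push_cast
  refine Finset.sum_congr rfl fun i _ => ?_
  rw [YZ_getD, mul_comm]

/-- the algebraic closure of the field with three elements -/
abbrev KK : Type := AlgebraicClosure (ZMod 3)

/-- roots killed by `t` are killed by `t'` -/
theorem root_kill {N N' : ℕ} {Y Y' : List ℕ} {t t' : ↥(chevE8.group KK)} (htT : t ∈ TT chevE8 KK)
    (htT' : t' ∈ TT chevE8 KK) {ζ ζ' : KK} (hζ : IsPrimitiveRoot ζ N) (hζ' : IsPrimitiveRoot ζ' N')
    (hX : ∀ a, cX e8T t a = ζ ^ fz (YZ Y) a) (hX' : ∀ a, cX e8T t' a = ζ' ^ fz (YZ Y') a)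
    (hS : ((SL N Y).all fun r => Nat.beq (dotN r Y' % N') 0) = true) {a : Fin 8 → ℤ}
    (ha : IsRoot cs8 e8T.isCartan a) (h1 : cX e8T t a = 1) : cX e8T t' a = 1 := by
  have key : ∀ a : Fin 8 → ℤ, IsRoot cs8 e8T.isCartan a → 0 ≤ a → cX e8T t a = 1 → cX e8T t' a = 1 := by
    intro a ha h0 h1
    obtain ⟨r, hr, rfl⟩ := mem_pos_iff.1 ⟨ha, h0⟩
    rw [hX, hζ.zpow_eq_one_iff_dvd, fz_dotN hr, Int.natCast_dvd_natCast] at h1
    rw [List.all_eq_true] at hS
    have h2 := hS r (by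
      unfold SL
      rw [List.mem_filter, Nat.beq_eq]
      exact ⟨hr, Nat.mod_eq_zero_of_dvd h1⟩)
    rw [Nat.beq_eq] at h2
    rw [hX', hζ'.zpow_eq_one_iff_dvd, fz_dotN hr, Int.natCast_dvd_natCast]
    exact Nat.dvd_of_mod_eq_zero h2
  rcases ha.pos_or_neg with h | h
  · exact key a ha h h1
  · have h2 := key (-a) ha.neg (neg_nonneg.2 h) (by
      rw [(isMC_cX e8T htT).neg, h1, inv_one])
    rw [(isMC_cX e8T htT').neg, inv_eq_one] at h2
    exact h2

/-- **The central element.** -/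
theorem centre {N N' : ℕ} {Y Y' : List ℕ} {ω : List ℕ} (hN0 : N ≠ 0) (hN : N.Coprime 3) (hN0' : N' ≠ 0)
    (hN' : N'.Coprime 3) (hc : chkC N N' Y Y' ω = true) {x : ↥(chevE8.group (ZMod 3))} (hx : x ^ N = 1)
    (hT : TorD e8T x N (vecL N Y)) :
    ∃ x' : ↥(chevE8.group (ZMod 3)), x' ^ N' = 1 ∧ Commute x x' ∧
      (∀ v : chevE8.Idx → ZMod 3, (((x : GL chevE8.Idx (ZMod 3)) : Matrix chevE8.Idx chevE8.Idx (ZMod 3))).mulVec v = v →
        (((x' : GL chevE8.Idx (ZMod 3)) : Matrix chevE8.Idx chevE8.Idx (ZMod 3))).mulVec v = v) ∧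
      (∀ d : ℕ, x' ^ d = 1 → ∀ i : Fin 8, N' ∣ d * Y'.getD i 0) ∧
      (N' = N → ∀ m : ℕ, x' = x ^ m → ∀ i : Fin 8, (N : ℤ) ∣ ((Y'.getD i 0 : ℕ) : ℤ) - m * ((Y.getD i 0 : ℕ) : ℤ)) := by
  classical
  obtain ⟨z, t, ζ, hζ, hz, htT, hv⟩ := hT
  unfold chkC at hc
  simp only [Bool.and_eq_true, decide_eq_true_eq] at hc
  obtain ⟨⟨⟨⟨⟨hY8, hY8'⟩, hw8⟩, hwY⟩, hwY'⟩, hS⟩ := hc
  obtain ⟨f, hf⟩ : ∃ f : ZMod 3 →+* KK, f = algebraMap (ZMod 3) KK := ⟨_, rfl⟩
  rw [← hf] at hz
  have hkch : CharP KK 3 := charP_of_injective_algebraMap (algebraMap (ZMod 3) KK).injective 3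
  have hlf : LocFin KK := locFin_of_isAlgebraic 3 KK
  have : NeZero N := ⟨hN0⟩
  have : NeZero N' := ⟨hN0'⟩
  have hζ0 : ζ ≠ 0 := hζ.ne_zero hN0
  have hYl : (YZ Y).length = 8 := by unfold YZ; rw [List.length_map, hY8]
  have hYl' : (YZ Y').length = 8 := by unfold YZ; rw [List.length_map, hY8']
  have hX : ∀ a, cX e8T t a = ζ ^ fz (YZ Y) a := cX_of_vals htT hζ hN0 hv
  have hwl := okw_spec hw8
  -- the twist on `t`
  have hwt : ∀ a, cX e8T t (rep cs8 e8T.isCartan (word ω) a) = cX e8T t a ^ 3 ^ 1 := by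
    intro a
    have hw3 : (N : ℤ) ∣ fz (YZ Y) (rep cs8 e8T.isCartan (word ω) a) - 3 * fz (YZ Y) a := by
      rw [← fz_actW ω hwl hYl]
      exact fz_dvd (fun i => Int.dvd_of_emod_eq_zero (of_decide_eq_true (all_range hwY i))) a
    rw [hX, hX]
    obtain ⟨m, hm⟩ := hw3
    have h1 : fz (YZ Y) (rep cs8 e8T.isCartan (word ω) a) = fz (YZ Y) a * 3 + N * m := by linarith only [hm]
    rw [h1, zpow_add₀ hζ0, zpow_mul, zpow_mul, zpow_natCast ζ N, hζ.pow_eq_one, one_zpow, mul_one]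
    exact zpow_ofNat _ 3
  -- the second root of unity and the second torus element
  obtain ⟨ζ', hζ', hζζ⟩ : ∃ ζ' : KK, IsPrimitiveRoot ζ' N' ∧ (N' = N → ζ' = ζ) := by
    by_cases h : N' = N
    · subst h
      exact ⟨ζ, hζ, fun _ => rfl⟩
    · obtain ⟨ζ', h1⟩ := exists_prim' (k := KK) 3 hN0' hN'
      exact ⟨ζ', h1, fun h2 => absurd h2 h⟩
  have hζ0' : ζ' ≠ 0 := hζ'.ne_zero hN0'
  have hMC : IsMC fun a : Fin 8 → ℤ => ζ' ^ fz (YZ Y') a := ⟨by
    show ζ' ^ fz (YZ Y') 0 = 1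
    have : fz (YZ Y') 0 = 0 := by unfold fz; simp
    rw [this, zpow_zero], fun a b => by
    show ζ' ^ fz (YZ Y') (a + b) = _
    rw [fz_add, zpow_add₀ hζ0']⟩
  obtain ⟨t', htT', hX'⟩ := exists_cX e8T invC_E8 one_ne_zero hMC
    (fun i => IsAlgClosed.exists_pow_nat_eq _ one_pos)
  have hwt' : ∀ a, cX e8T t' (rep cs8 e8T.isCartan (word ω) a) = cX e8T t' a ^ 3 ^ 1 := by
    intro a
    have hw3 : (N' : ℤ) ∣ fz (YZ Y') (rep cs8 e8T.isCartan (word ω) a) - 3 * fz (YZ Y') a := by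
      rw [← fz_actW ω hwl hYl']
      exact fz_dvd (fun i => Int.dvd_of_emod_eq_zero (of_decide_eq_true (all_range hwY' i))) a
    rw [hX', hX']
    obtain ⟨m, hm⟩ := hw3
    have h1 : fz (YZ Y') (rep cs8 e8T.isCartan (word ω) a) = fz (YZ Y') a * 3 + N' * m := by linarith only [hm]
    rw [h1, zpow_add₀ hζ0', zpow_mul, zpow_mul, zpow_natCast ζ' N', hζ'.pow_eq_one, one_zpow, mul_one]
    exact zpow_ofNat _ 3
  -- Lang
  have hNs : NSys CoxeterMatrix.E₈ (TT chevE8 KK) (nc e8T KK) := nsysT e8T hlf 3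
  have hn : Nat.card (ZMod 3) = 3 ^ 1 := by rw [Nat.card_eq_fintype_card, ZMod.card]; rfl
  obtain ⟨σ, hσ⟩ : ∃ σ : MulAut ↥(chevE8.group KK), σ = phi chevE8 KK 3 1 := ⟨_, rfl⟩
  have hσF : IsFrob 3 1 σ := by rw [hσ]; exact phi_isFrob 3 1
  have F : Fr cs8 e8T.isCartan (TT chevE8 KK) (XX chevE8 8 KK) σ (AddEquiv.refl _) := by
    rw [hσ]; exact phi_fr e8T cs8 3 hlf 1
  have hσx : σ (emb e8T.inList f x) = emb e8T.inList f x := by
    rw [hσ]; exact Cfsg.Agent.H378.TorFin.phi_emb' e8T f 3 hn x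
  obtain ⟨n1, hn1⟩ := exists_rp cs8 hNs (word ω)
  have hnt : n1 * σ t * n1⁻¹ = t := (tau_iff e8T cs8 hlf hσF F hn1 htT).2 hwt
  have hnt' : n1 * σ t' * n1⁻¹ = t' := (tau_iff e8T cs8 hlf hσF F hn1 htT').2 hwt'
  have htN : t ^ N = 1 := by
    rw [← hz]
    have h1 : (z⁻¹ * emb e8T.inList f x * z) ^ N = z⁻¹ * (emb e8T.inList f x) ^ N * z := by
      have := conj_pow (i := N) (a := z⁻¹) (b := emb e8T.inList f x)
      rwa [inv_inv] at this
    rw [h1, ← map_pow, hx, map_one, mul_one, inv_mul_cancel]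
  have hC := con_of_frm' (p := 3) e8T cs8 hlf frm8 invC_E8 (N := N) (Nat.coprime_one_left N) hN0 hN
  obtain ⟨z1, hz1, hz2⟩ := star e8T cs8 hlf 3 hC one_pos hσF F invC_E8 one_ne_zero hn1 hσx hz htT htN hnt
  have h3 : σ z1 = z1 * n1 := by rw [← hz1]; group
  have h4 : σ (z1 * t' * z1⁻¹) = z1 * t' * z1⁻¹ := by
    rw [map_mul, map_mul, map_inv, h3]
    calc z1 * n1 * σ t' * (z1 * n1)⁻¹ = z1 * (n1 * σ t' * n1⁻¹) * z1⁻¹ := by group
      _ = _ := by rw [hnt']
  rw [hσ] at h4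
  obtain ⟨x', hx'⟩ := Cfsg.Agent.H378.TorFin.fix_mem e8T f 3 hn invC_E8 h4
  have hxt : emb e8T.inList f x = z1 * t * z1⁻¹ := by rw [← hz2]; group
  have hinj := emb_injective e8T.inList f
  have hpow : ∀ d : ℕ, emb e8T.inList f (x' ^ d) = z1 * t' ^ d * z1⁻¹ := by
    intro d
    rw [map_pow, hx', conj_pow]
  refine ⟨x', ?_, ?_, ?_, ?_, ?_⟩
  · apply hinj
    rw [hpow, map_one]
    have h5 : t' ^ N' = 1 := by
      refine cX_inj e8T (pow_mem htT' _) (one_mem _) fun i => ?_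
      rw [cX_pow e8T htT', cX_one, hX', ← zpow_natCast, ← zpow_mul, mul_comm, zpow_mul, zpow_natCast,
        hζ'.pow_eq_one, one_zpow]
    rw [h5, mul_one, mul_inv_cancel]
  · apply hinj
    rw [map_mul, map_mul, hxt, hx']
    have h5 : t * t' = t' * t := Cfsg.Agent.BpExc.TorChev.TT_comm e8T t htT t' htT'
    calc z1 * t * z1⁻¹ * (z1 * t' * z1⁻¹) = z1 * (t * t') * z1⁻¹ := by group
      _ = z1 * (t' * t) * z1⁻¹ := by rw [h5]
      _ = _ := by group
  · intro v hv1
    obtain ⟨M, hM⟩ : ∃ M : ↥(chevE8.group KK) → Matrix chevE8.Idx chevE8.Idx KK,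
        ∀ g, M g = ((g : GL chevE8.Idx KK) : Matrix chevE8.Idx chevE8.Idx KK) := ⟨_, fun _ => rfl⟩
    have hMm : ∀ a b, M (a * b) = M a * M b := fun a b => by
      rw [hM, hM, hM, Subgroup.coe_mul, Units.val_mul]
    have hM1 : ∀ a, M a * M a⁻¹ = 1 := fun a => by
      rw [← hMm, mul_inv_cancel, hM]; rfl
    have hM2 : ∀ a, M a⁻¹ * M a = 1 := fun a => by
      rw [← hMm, inv_mul_cancel, hM]; rfl
    have hemb : ∀ (g : ↥(chevE8.group (ZMod 3))) (v : chevE8.Idx → ZMod 3),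
        (M (emb e8T.inList f g)).mulVec (fun i => f (v i)) = fun i => f (((((g : GL chevE8.Idx (ZMod 3)) :
          Matrix chevE8.Idx chevE8.Idx (ZMod 3))).mulVec v) i) := by
      intro g v
      rw [hM, coe_emb, coe_glMap]
      funext i
      exact (RingHom.map_mulVec f _ v i).symm
    have hM' : ∀ (g g' : ↥(chevE8.group KK)) (u : chevE8.Idx → KK), (M (z1 * g * z1⁻¹)).mulVec u = u ↔
        (M g).mulVec ((M z1⁻¹).mulVec u) = (M z1⁻¹).mulVec u := by
      intro g g' u
      rw [hMm, hMm]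
      constructor
      · intro h
        have h6 := congrArg (fun u => (M z1⁻¹).mulVec u) h
        simp only [Matrix.mulVec_mulVec] at h6 ⊢
        rw [← mul_assoc, ← mul_assoc, hM2, one_mul] at h6
        exact h6
      · intro h
        have h6 := congrArg (fun u => (M z1).mulVec u) h
        simp only [Matrix.mulVec_mulVec] at h6 ⊢
        rw [hM1, Matrix.one_mulVec] at h6
        rw [mul_assoc]
        exact h6
    have hu : (M (emb e8T.inList f x)).mulVec (fun i => f (v i)) = fun i => f (v i) := by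
      rw [hemb, hv1]
    rw [hxt, hM' t t] at hu
    have hu' : (M t').mulVec ((M z1⁻¹).mulVec (fun i => f (v i))) = (M z1⁻¹).mulVec (fun i => f (v i)) := by
      obtain ⟨u, hue⟩ : ∃ u, u = (M z1⁻¹).mulVec (fun i => f (v i)) := ⟨_, rfl⟩
      rw [← hue] at hu ⊢
      rw [hM, TT_diag' e8T htT] at hu
      rw [hM, TT_diag' e8T htT']
      funext i
      have h7 := congrFun hu i
      rw [Matrix.mulVec_diagonal] at h7 ⊢
      rcases i with i | s
      · simp
      · simp only [Sum.elim_inr] at h7 ⊢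
        by_cases h0 : u (Sum.inr s) = 0
        · rw [h0, mul_zero]
        · have h8 : cX e8T t (vec chevE8 8 s) = 1 := by
            have h9 : cX e8T t (vec chevE8 8 s) * u (Sum.inr s) = 1 * u (Sum.inr s) := by rw [one_mul]; exact h7
            exact mul_right_cancel₀ h0 h9
          rw [root_kill htT htT' hζ hζ' hX hX' hS ((isRoot_iff e8T cs8 _).2 ⟨s, s.2, rfl⟩) h8, one_mul]
    have h8 : (M (emb e8T.inList f x')).mulVec (fun i => f (v i)) = fun i => f (v i) := by
      rw [hx', hM' t' t']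
      exact hu'
    rw [hemb] at h8
    funext i
    exact f.injective (congrFun h8 i)
  · intro d hd i
    have h5 : t' ^ d = 1 := by
      have h6 := hpow d
      rw [hd, map_one] at h6
      have h7 : t' ^ d = z1⁻¹ * (z1 * t' ^ d * z1⁻¹) * z1 := by group
      rw [h7, ← h6]
      group
    have h6 := congrArg (fun g => cX e8T g (sr i)) h5
    simp only [cX_pow e8T htT', cX_one, hX', fz_sr, YZ_getD] at h6
    rw [zpow_natCast, ← pow_mul, hζ'.pow_eq_one_iff_dvd] at h6
    rwa [mul_comm] at h6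
  · intro hNN m hm i
    have h5 : t' = t ^ m := by
      have h6 := hx'
      rw [hm, map_pow, hxt, conj_pow] at h6
      exact (mul_left_cancel (mul_right_cancel h6)).symm
    have h6 := congrArg (fun g => cX e8T g (sr i)) h5
    simp only [cX_pow e8T htT, hX, hX', fz_sr, YZ_getD, hζζ hNN] at h6
    rw [← zpow_natCast (ζ ^ _), ← zpow_mul] at h6
    have h7 : ζ ^ (((Y'.getD i 0 : ℕ) : ℤ) - m * ((Y.getD i 0 : ℕ) : ℤ)) = 1 := by
      rw [zpow_sub₀ hζ0, h6, mul_comm, div_self (zpow_ne_zero _ hζ0)]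
    exact (hζ.zpow_eq_one_iff_dvd _).1 h7

end Cfsg.Agent.H540.E8C
end
end
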